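import Groth.Prelude.Def_CAlgX
import Mathlib.RingTheory.Regular.RegularSequence
import Mathlib.RingTheory.MvPolynomial.Homogeneous
import Mathlib.Algebra.MvPolynomial.Division
import Mathlib.Algebra.BigOperators.Fin

/-!
# Weakly regular sequences are quasi-regular
-/

set_option autoImplicit false

universe u

open MvPolynomial

namespace Groth.Agent.QRegLib

variable {A : Type u} [CommRing A]

/-- an element of `I · (f)^n` is the value of a form of degree `n` with coefficients in `I` -/
theorem exists_form_coeff_mem {c : ℕ} (f : Fin c → A) (I : Ideal A) (n : ℕ) {x : A}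
    (hx : x ∈ I * Ideal.span (Set.range f) ^ n) :
    ∃ P : MvPolynomial (Fin c) A, P.IsHomogeneous n ∧ (∀ d, P.coeff d ∈ I) ∧ eval f P = x := by
  induction hx using Submodule.mul_induction_on' with
  | mem_mul_mem a ha b hb =>
    obtain ⟨Q, hQ, rfl⟩ := (Ideal.mem_span_pow_iff_exists_isHomogeneous f b).mp hb
    exact ⟨C a * Q, hQ.C_mul a, fun d => by rw [coeff_C_mul]; exact I.mul_mem_right _ ha, by simp⟩
  | add x _ y _ ihx ihy =>
    obtain ⟨P, hP, hPc, hPe⟩ := ihx
    obtain ⟨Q, hQ, hQc, hQe⟩ := ihy
    exact ⟨P + Q, hP.add hQ, fun d => by rw [coeff_add]; exact add_mem (hPc d) (hQc d),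
      by rw [map_add, hPe, hQe]⟩

/-- a form with coefficients in `I` has value in `I · (f)^n` -/
theorem eval_mem_mul_pow {c : ℕ} (f : Fin c → A) (I : Ideal A) (n : ℕ)
    (P : MvPolynomial (Fin c) A) (hP : P.IsHomogeneous n) (hc : ∀ d, P.coeff d ∈ I) :
    eval f P ∈ I * Ideal.span (Set.range f) ^ n := by
  rw [eval_eq]
  refine Ideal.sum_mem _ fun d hd => Ideal.mul_mem_mul (hc d) ?_
  refine (Ideal.mem_span_pow_iff_exists_isHomogeneous f _).mpr ⟨monomial d 1, ?_, ?_⟩
  · refine isHomogeneous_monomial _ ?_
    by_contra h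
    exact mem_support_iff.mp hd (hP.coeff_eq_zero h)
  · simp [eval_monomial, Finsupp.prod]

/-- quasi-regularity only needs to be tested on forms vanishing at `f` -/
theorem coeff_mem_of_eval_mem {c : ℕ} (f : Fin c → A) (n : ℕ)
    (h : ∀ P : MvPolynomial (Fin c) A, P.IsHomogeneous n → eval f P = 0 →
      ∀ d, P.coeff d ∈ Ideal.span (Set.range f))
    (P : MvPolynomial (Fin c) A) (hP : P.IsHomogeneous n)
    (he : eval f P ∈ Ideal.span (Set.range f) ^ (n + 1)) (d : Fin c →₀ ℕ) :
    P.coeff d ∈ Ideal.span (Set.range f) := by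
  rw [pow_succ'] at he
  obtain ⟨Q, hQ, hQc, hQe⟩ := exists_form_coeff_mem f _ n he
  have := h (P - Q) (hP.sub hQ) (by rw [map_sub, hQe, sub_self]) d
  rw [coeff_sub] at this
  simpa using add_mem this (hQc d)

/-- an element regular modulo a quasi-regular ideal is regular modulo all its powers -/
theorem mem_pow_of_mul_mem {c : ℕ} (f : Fin c → A) (hf : CAlgX.IsQuasiRegular f) (g : A)
    (hg : ∀ y, g * y ∈ Ideal.span (Set.range f) → y ∈ Ideal.span (Set.range f)) :
    ∀ (n : ℕ) (y : A), g * y ∈ Ideal.span (Set.range f) ^ n → y ∈ Ideal.span (Set.range f) ^ n := by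
  intro n
  induction n with
  | zero => simp
  | succ n ih =>
    intro y hy
    obtain ⟨Q, hQ, rfl⟩ := (Ideal.mem_span_pow_iff_exists_isHomogeneous f y).mp
      (ih y (Ideal.pow_le_pow_right n.le_succ hy))
    have h1 : ∀ d, Q.coeff d ∈ Ideal.span (Set.range f) := fun d => hg _ (by
      have := hf n (C g * Q) (hQ.C_mul g) (by simpa using hy) d
      rwa [coeff_C_mul] at this)
    rw [pow_succ']
    exact eval_mem_mul_pow f _ n Q hQ h1

/-- appending to a quasi-regular sequence an element regular modulo it -/
theorem isQuasiRegular_of_castSucc {c : ℕ} (f : Fin (c + 1) → A)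
    (hf : CAlgX.IsQuasiRegular (f ∘ Fin.castSucc))
    (hg : ∀ y, f (Fin.last c) * y ∈ Ideal.span (Set.range (f ∘ Fin.castSucc)) →
      y ∈ Ideal.span (Set.range (f ∘ Fin.castSucc))) :
    CAlgX.IsQuasiRegular f := by
  classical
  set g := f (Fin.last c) with hgdef
  set R' := Ideal.span (Set.range (f ∘ Fin.castSucc)) with hR'
  have hle : R' ≤ Ideal.span (Set.range f) := Ideal.span_mono (Set.range_comp_subset_range _ f)
  intro n
  refine coeff_mem_of_eval_mem f n ?_
  induction n with
  | zero =>
    intro P hP he d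
    have hC : P = C (P.coeff 0) := by
      ext e
      rw [coeff_C]
      split_ifs with h
      · rw [h]
      · exact hP.coeff_eq_zero (by
          rw [Ne, Finsupp.degree_eq_zero_iff]; exact fun h' => h h'.symm)
    rw [hC, eval_C] at he
    rw [hC, he]
    simp
  | succ n ih =>
    intro P hP he
    let s : Fin (c + 1) →₀ ℕ := Finsupp.single (Fin.last c) 1
    let G := killCompl (Fin.castSucc_injective c) P
    let H := P.divMonomial s
    have hG : G.IsHomogeneous (n + 1) := by
      intro d hd
      rw [Finsupp.weight_apply]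
      have := hP (show P.coeff (d.mapDomain Fin.castSucc) ≠ 0 by
        simpa [G, coeff_killCompl] using hd)
      rw [Finsupp.weight_apply, Finsupp.sum_mapDomain_index (by simp) (by simp [add_smul])] at this
      simpa using this
    have hH : H.IsHomogeneous n := by
      intro d hd
      have := hP (show P.coeff (s + d) ≠ 0 by simpa [H, coeff_divMonomial] using hd)
      simp only [map_add, s, Finsupp.weight_apply] at this ⊢
      rw [Finsupp.sum_single_index (by simp)] at this
      simp at this ⊢
      omega
    have hmod : rename Fin.castSucc G = P.modMonomial s := by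
      ext d
      by_cases hd : s ≤ d
      · rw [coeff_modMonomial_of_le _ hd]
        refine coeff_rename_eq_zero _ _ _ fun e he' => ?_
        exfalso
        have h1 : 1 ≤ d (Fin.last c) := by
          have := hd (Fin.last c)
          simpa [s] using this
        rw [← he', Finsupp.mapDomain_of_notMem_range] at h1
        · omega
        · simp [Fin.exists_castSucc_eq]
      · rw [coeff_modMonomial_of_not_le _ hd]
        have hd0 : d (Fin.last c) = 0 := by
          by_contra h
          exact hd (Finsupp.single_le_iff.mpr (Nat.one_le_iff_ne_zero.mpr h))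
        have hsub : (d.support : Set (Fin (c + 1))) ⊆ Set.range Fin.castSucc := by
          intro i hi
          rcases Fin.eq_castSucc_or_eq_last i with ⟨j, rfl⟩ | rfl
          · exact ⟨j, rfl⟩
          · exact absurd hd0 (by simpa using hi)
        obtain ⟨e, rfl⟩ : ∃ e, Finsupp.mapDomain Fin.castSucc e = d :=
          ⟨_, Finsupp.mapDomain_comapDomain Fin.castSucc (Fin.castSucc_injective c) d hsub⟩
        rw [coeff_rename_mapDomain _ (Fin.castSucc_injective c), coeff_killCompl]
    have hsplit : P = X (Fin.last c) * H + rename Fin.castSucc G := by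
      rw [hmod]
      exact (divMonomial_add_modMonomial_single P (Fin.last c)).symm
    rw [hsplit, map_add, map_mul, eval_X, eval_rename] at he
    have h1 : g * eval f H ∈ R' ^ (n + 1) := by
      rw [eq_neg_of_add_eq_zero_left he]
      exact neg_mem ((Ideal.mem_span_pow_iff_exists_isHomogeneous _ _).mpr ⟨G, hG, rfl⟩)
    have h2 := mem_pow_of_mul_mem _ hf g hg _ _ h1
    have hHc : ∀ d, H.coeff d ∈ Ideal.span (Set.range f) :=
      coeff_mem_of_eval_mem f n ih H hH (Ideal.pow_right_mono hle _ h2)
    obtain ⟨K, hK, hKe⟩ := (Ideal.mem_span_pow_iff_exists_isHomogeneous _ _).mp h2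
    have h3 : ∀ e, (G + C g * K).coeff e ∈ R' :=
      hf (n + 1) (G + C g * K) (hG.add (hK.C_mul g)) (by
        rw [map_add, map_mul, eval_C, hKe,
          show eval (f ∘ Fin.castSucc) G + g * eval f H = 0 by rw [← he]; ring]
        exact zero_mem _)
    have hGc : ∀ e, G.coeff e ∈ Ideal.span (Set.range f) := fun e => by
      have := hle (h3 e)
      rw [coeff_add, coeff_C_mul] at this
      have hgm : g * K.coeff e ∈ Ideal.span (Set.range f) :=
        Ideal.mul_mem_right _ _ (Ideal.subset_span ⟨_, rfl⟩)
      simpa using sub_mem this hgm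
    intro d
    rw [hsplit, coeff_add]
    refine add_mem ?_ ?_
    · rw [coeff_X_mul']
      split_ifs
      · exact hHc _
      · exact zero_mem _
    · by_cases hd : ∃ e, Finsupp.mapDomain Fin.castSucc e = d
      · obtain ⟨e, rfl⟩ := hd
        rw [coeff_rename_mapDomain _ (Fin.castSucc_injective c)]
        exact hGc e
      · rw [coeff_rename_eq_zero _ _ _ fun e he' => absurd ⟨e, he'⟩ hd]
        exact zero_mem _

/-- weakly regular sequences are quasi-regular -/
theorem isQuasiRegular_of_isWeaklyRegular : ∀ (c : ℕ) (f : Fin c → A),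
    RingTheory.Sequence.IsWeaklyRegular A (List.ofFn f) → CAlgX.IsQuasiRegular f := by
  intro c
  induction c with
  | zero =>
    intro f _ n P hP he d
    have h0 : Ideal.span (Set.range f) = ⊥ := by rw [Set.range_eq_empty f]; simp
    rw [h0, ← Ideal.zero_eq_bot, zero_pow (Nat.succ_ne_zero n), Ideal.zero_eq_bot,
      Ideal.mem_bot] at he
    rw [h0, Ideal.mem_bot]
    have hd : d = 0 := Subsingleton.elim _ _
    rw [P.eq_C_of_isEmpty, eval_C] at he
    rw [P.eq_C_of_isEmpty, hd, coeff_zero_C]
    exact he
  | succ c ih =>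
    intro f hf
    have hlist : List.ofFn f = List.ofFn (f ∘ Fin.castSucc) ++ [f (Fin.last c)] := by
      rw [List.ofFn_succ', List.concat_eq_append]; rfl
    rw [hlist, RingTheory.Sequence.isWeaklyRegular_append_iff] at hf
    obtain ⟨h1, h2⟩ := hf
    rw [RingTheory.Sequence.isWeaklyRegular_singleton_iff] at h2
    refine isQuasiRegular_of_castSucc f (ih _ h1) fun y hy => ?_
    have hJ : (Ideal.ofList (List.ofFn (f ∘ Fin.castSucc)) • ⊤ : Submodule A A) =
        Ideal.span (Set.range (f ∘ Fin.castSucc)) := by
      rw [smul_eq_mul, Ideal.mul_top, Ideal.ofList]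
      congr 1
      ext x
      simp [List.mem_ofFn]
    rw [← hJ] at hy ⊢
    exact (Submodule.Quotient.mk_eq_zero _).mp (h2.right_eq_zero_of_smul
      (by rw [← Submodule.Quotient.mk_smul]; exact (Submodule.Quotient.mk_eq_zero _).mpr hy))

end Groth.Agent.QRegLib
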