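import Groth.Agent.QRegLib.Basic
import Mathlib.RingTheory.Filtration
import Mathlib.RingTheory.Jacobson.Ideal

/-!
# Intersections of an ideal with powers of an ideal generated by a regular sequence modulo it
-/

set_option autoImplicit false
set_option maxHeartbeats 400000

universe u

open MvPolynomial

namespace Groth.Agent.QRegLib

variable {A : Type u} [CommRing A]

theorem inf_pow_le_step (J : Ideal A) {r : ℕ} (f : Fin r → A)
    (hf : RingTheory.Sequence.IsWeaklyRegular (A ⧸ J) (List.ofFn f)) (n : ℕ) :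
    J ⊓ Ideal.span (Set.range f) ^ n ≤
      J * Ideal.span (Set.range f) ^ n ⊔ J ⊓ Ideal.span (Set.range f) ^ (n + 1) := by
  set R := Ideal.span (Set.range f) with hR
  intro x hx
  obtain ⟨hxJ, hxR⟩ := hx
  obtain ⟨P, hP, rfl⟩ := (Ideal.mem_span_pow_iff_exists_isHomogeneous f x).mp hxR
  let q := Ideal.Quotient.mk J
  have hq : CAlgX.IsQuasiRegular (q ∘ f) := by
    refine isQuasiRegular_of_isWeaklyRegular r _ ?_
    rw [← List.map_ofFn, show (q : A → A ⧸ J) = algebraMap A (A ⧸ J) from rfl,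
      RingTheory.Sequence.isWeaklyRegular_map_algebraMap_iff]
    exact hf
  have he : eval (q ∘ f) (map q P) ∈ Ideal.span (Set.range (q ∘ f)) ^ (n + 1) := by
    rw [← map_eval, show q (eval f P) = 0 from Ideal.Quotient.eq_zero_iff_mem.mpr hxJ]
    exact zero_mem _
  have hc : ∀ d, P.coeff d ∈ R ⊔ J := fun d => by
    have := hq n (map q P) (hP.map q) he d
    rw [coeff_map, Set.range_comp, ← Ideal.map_span, Ideal.mem_quotient_iff_mem_sup] at this
    exact this
  have h1 := eval_mem_mul_pow f (R ⊔ J) n P hP hc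
  rw [Ideal.sup_mul, ← pow_succ', sup_comm] at h1
  obtain ⟨y, hy, z, hz, hyz⟩ := Submodule.mem_sup.mp h1
  rw [← hyz]
  refine Submodule.add_mem_sup hy ⟨?_, hz⟩
  have : z = eval f P - y := by rw [← hyz]; ring
  rw [this]
  exact sub_mem hxJ (Ideal.mul_le_left hy)

theorem inf_pow_eq (J : Ideal A) {r : ℕ} (f : Fin r → A)
    (hf : RingTheory.Sequence.IsWeaklyRegular (A ⧸ J) (List.ofFn f)) (n N : ℕ) (hnN : n ≤ N) :
    J ⊓ Ideal.span (Set.range f) ^ n =
      J * Ideal.span (Set.range f) ^ n ⊔ J ⊓ Ideal.span (Set.range f) ^ N := by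
  refine le_antisymm ?_ (sup_le (le_inf Ideal.mul_le_left Ideal.mul_le_right)
    (inf_le_inf_left J (Ideal.pow_le_pow_right hnN)))
  induction N, hnN using Nat.le_induction with
  | base => exact le_sup_right
  | succ N hN ih =>
    refine ih.trans (sup_le le_sup_left ((inf_pow_le_step J f hf N).trans ?_))
    exact sup_le_sup_right (Ideal.mul_mono_right (Ideal.pow_le_pow_right hN)) _

theorem inf_pow_eq_mul_pow [IsNoetherianRing A] (J : Ideal A) {r : ℕ} (f : Fin r → A)
    (hf : RingTheory.Sequence.IsWeaklyRegular (A ⧸ J) (List.ofFn f))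
    (hrad : Ideal.span (Set.range f) ≤ (⊥ : Ideal A).jacobson) (n : ℕ) :
    J ⊓ Ideal.span (Set.range f) ^ n = J * Ideal.span (Set.range f) ^ n := by
  refine le_antisymm (fun x hx => ?_) (le_inf Ideal.mul_le_left Ideal.mul_le_right)
  set R := Ideal.span (Set.range f) with hR
  set K := J * R ^ n with hK
  have h0 : (Submodule.Quotient.mk x : A ⧸ K) ∈ (⨅ i : ℕ, R ^ i • ⊤ : Submodule A (A ⧸ K)) := by
    rw [Submodule.mem_iInf]
    intro i
    obtain ⟨y, hy, z, hz, rfl⟩ := Submodule.mem_sup.mp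
      ((inf_pow_eq J f hf n (max n i) (le_max_left _ _)).le hx)
    rw [Submodule.Quotient.mk_add, (Submodule.Quotient.mk_eq_zero K).mpr hy, zero_add]
    have : Submodule.Quotient.mk z = z • (Submodule.Quotient.mk 1 : A ⧸ K) := by
      rw [← Submodule.Quotient.mk_smul, smul_eq_mul, mul_one]
    rw [this]
    exact Submodule.smul_mem_smul (Ideal.pow_le_pow_right (le_max_right n i) hz.2) trivial
  rw [Ideal.iInf_pow_smul_eq_bot_of_le_jacobson R hrad, Submodule.mem_bot,
    Submodule.Quotient.mk_eq_zero] at h0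
  exact h0

end Groth.Agent.QRegLib
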